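import Mathlib
import Cfsg.Agent.H478.RadTools_m3
import Cfsg.Agent.H459.Inv.Tools
import Cfsg.Agent.H509.CycBlock
import Cfsg.Agent.Classification.QDW.FuCop
import Cfsg.Agent.S0204
import Cfsg.Agent.BpSpor.Row.B
import Cfsg.Agent.H843.FullB3
import Cfsg.Agent.H800.Sp.B
import Cfsg.Agent.BabyM.HNB
import Cfsg.Agent.H821.SpB
import Cfsg.Agent.H603.SporElim
import Cfsg.Agent.S1701
import Cfsg.Agent.FastGrp
import Cfsg.Agent.Prune
set_option linter.all false

section
prune_inst 0x7f00000000000000000000000000000000000000000000000000000000000000000000000000000000000000000000000000000000000000000000000000000000000000000000000000000000000000003fffffffffffffffffffffffffffbeffbdffffffff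

-- part: H729/Inv/VFour
section
set_option linter.all false
open scoped Cfsg.Agent.FastGrp

-- part: H729/Inv/Tool
section
/-!
# S3830, tools for the sporadic rows (helper729)

* `Inn p K` : all automorphisms of order `p` are inner;
* `irow_of_sub` : a proper simple subgroup of index prime to `p`;
* `irow_of_hom` : the same with an injective homomorphism from a group of known order.
-/

set_option autoImplicit false
set_option linter.unusedSectionVars false

namespace Cfsg.Agent.H729.Inv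

open Cfsg Subgroup Cfsg.Agent.H459.Inv Cfsg.Agent.H459.Rad

universe u v

/-- all automorphisms of order `p` are inner -/
def Inn (p : ℕ) (K : Type*) [Group K] : Prop := ∀ x : MulAut K, orderOf x = p → ∃ g : K, x = MulAut.conj g

section

variable {K : Type*} [Group K]

theorem orderOf_conj_of_center {K : Type*} [Group K] (hc : center K = ⊥) (g : K) :
    orderOf (MulAut.conj g) = orderOf g := by
  refine orderOf_injective (MulAut.conj : K →* MulAut K) ?_ g
  rw [injective_iff_map_eq_one]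
  intro a ha
  have h1 : a ∈ center K := by
    rw [mem_center_iff]
    intro b
    have h2 : MulAut.conj a b = b := by rw [ha]; rfl
    rw [MulAut.conj_apply] at h2
    calc b * a = (a * b * a⁻¹) * a := by rw [h2]
      _ = a * b := by group
  rw [hc] at h1
  exact h1

theorem center_of_simple [IsSimpleGroup K] (hna : ¬ IsMulCommutative K) : center K = ⊥ := by
  refine ((inferInstance : (center K).Normal).eq_bot_or_eq_top).resolve_right fun h => hna ?_
  refine ⟨⟨fun a b => ?_⟩⟩
  have h1 : a ∈ center K := by rw [h]; trivial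
  exact (mem_center_iff.1 h1 b).symm

theorem not_comm_of_card {S : Type*} [Group S] [Finite S] [IsSimpleGroup S] (h : ¬ (Nat.card S).Prime) :
    ¬ IsMulCommutative S := by
  intro hc
  let inst : CommGroup S := { (inferInstance : Group S) with mul_comm := fun a b => hc.is_comm.comm a b }
  exact h IsSimpleGroup.prime_card

/-- every element of order `p` is conjugate into a subgroup of index prime to `p` -/
theorem exists_conj_mem [Finite K] {p : ℕ} [hp : Fact p.Prime] {T : Subgroup K} (hT : ¬ p ∣ T.index) {g : K}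
    (hg : orderOf g = p) : ∃ k : K, k * g * k⁻¹ ∈ T := by
  obtain ⟨P⟩ : Nonempty (Sylow p T) := inferInstance
  have h1 : IsPGroup p ((P : Subgroup T).map T.subtype) := P.2.map _
  have h2 : ¬ p ∣ ((P : Subgroup T).map T.subtype).index := by
    rw [Subgroup.index_map_subtype]
    intro h
    rcases hp.out.dvd_mul.1 h with h | h
    · exact P.not_dvd_index h
    · exact hT h
  obtain ⟨Q, hQ⟩ := IsPGroup.exists_le_sylow h1
  have h3 : (Q : Subgroup K) = (P : Subgroup T).map T.subtype := by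
    refine (Subgroup.eq_of_le_of_card_ge hQ ?_).symm
    obtain ⟨a, ha⟩ := (IsPGroup.iff_card.1 Q.2)
    obtain ⟨b, hb⟩ := (IsPGroup.iff_card.1 h1)
    rw [ha, hb]
    have h4 : p ^ a ∣ p ^ b * ((P : Subgroup T).map T.subtype).index := by
      rw [← hb, Subgroup.card_mul_index, ← ha]
      exact Subgroup.card_subgroup_dvd_card _
    have h5 : p ^ a ∣ p ^ b := (Nat.Coprime.dvd_of_dvd_mul_right
      (Nat.Coprime.pow_left _ ((Nat.Prime.coprime_iff_not_dvd hp.out).2 h2)) h4)
    exact Nat.le_of_dvd (pow_pos hp.out.pos _) h5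
  have h4 : IsPGroup p (zpowers g) := by
    rw [IsPGroup.iff_card]
    exact ⟨1, by rw [Nat.card_zpowers, hg, pow_one]⟩
  obtain ⟨R, hR⟩ := IsPGroup.exists_le_sylow h4
  obtain ⟨k, hk⟩ := MulAction.exists_smul_eq K R Q
  refine ⟨k, ?_⟩
  have h5 : k * g * k⁻¹ ∈ (Q : Subgroup K) := by
    rw [← hk]
    rw [Sylow.coe_subgroup_smul]
    exact ⟨g, hR (mem_zpowers g), rfl⟩
  rw [h3] at h5
  obtain ⟨t, -, ht⟩ := h5
  rw [← ht]
  exact t.2

/-- `NS` for an element of a subgroup -/
theorem ns_of_mem {T : Subgroup K} {g : T} (h : NS (MulAut.conj g)) : NS (MulAut.conj (g : K)) := by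
  obtain ⟨y, hy, hn⟩ := ns_inner_iff.1 h
  refine ns_of_inner (y := (y : K)) (by rw [Subgroup.orderOf_coe]; exact hy) fun hs => hn ?_
  have h1 : (closure ({g, y} : Set T)).map T.subtype = closure ({(g : K), (y : K)} : Set K) := by
    rw [MonoidHom.map_closure, Set.image_pair]
    rfl
  rw [← h1] at hs
  exact Group.isSolvable_of_isSolvable_injective
    (f := ((closure ({g, y} : Set T)).equivMapOfInjective T.subtype T.subtype_injective).toMonoidHom)
    ((closure ({g, y} : Set T)).equivMapOfInjective T.subtype T.subtype_injective).injective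

theorem ns_conj_of_conj {g k : K} (h : NS (MulAut.conj (k * g * k⁻¹))) : NS (MulAut.conj g) := by
  refine ns_of_conj (g := MulAut.conj k) ?_
  have h1 : MulAut.conj k * MulAut.conj g * (MulAut.conj k)⁻¹ = MulAut.conj (k * g * k⁻¹) := by
    rw [map_mul, map_mul, map_inv]
  rw [h1]
  exact h

/-- **a proper simple subgroup of index prime to `p`** -/
theorem irow_of_sub {K : Type u} [Group K] [Finite K] {p : ℕ} [hp : Fact p.Prime] (hin : Inn p K)
    (hc : center K = ⊥) (hI : IH.{u} p (Nat.card K)) (T : Subgroup K) (hT : T ≠ ⊤) [IsSimpleGroup T]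
    (hna : ¬ IsMulCommutative T) (hidx : ¬ p ∣ T.index) : IRow p K := by
  intro x hx
  obtain ⟨g, rfl⟩ := hin x hx
  rw [orderOf_conj_of_center hc] at hx
  obtain ⟨k, hk⟩ := exists_conj_mem hidx hx
  refine ns_conj_of_conj (k := k) ?_
  have h1 : Nat.card T < Nat.card K := by
    refine lt_of_le_of_ne (Subgroup.card_le_card_group T) fun h => hT (Subgroup.eq_top_of_card_eq _ h)
  obtain ⟨g', hg'⟩ : ∃ g' : T, (g' : K) = k * g * k⁻¹ := ⟨⟨_, hk⟩, rfl⟩
  have h3 : orderOf g' = p := by
    rw [← Subgroup.orderOf_coe, hg', ← hx]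
    exact MulEquiv.orderOf_eq (MulAut.conj k) g
  have h2 : NS (MulAut.conj g') := by
    refine hI T hna h1 (MulAut.conj g') ?_
    rw [orderOf_conj_of_center (center_of_simple hna), h3]
  rw [← hg']
  exact ns_of_mem h2

/-- the same with a homomorphism -/
theorem irow_of_hom {K : Type u} [Group K] [Finite K] {p : ℕ} [hp : Fact p.Prime] (hin : Inn p K)
    (hc : center K = ⊥) (hI : IH.{u} p (Nat.card K)) {S : Type v} [Group S] [IsSimpleGroup S]
    (f : S →* K) (hf : Function.Injective f) {n i : ℕ} (hn : Nat.card S = n) (hn' : ¬ n.Prime)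
    (hK : Nat.card K = n * i) (hi : ¬ p ∣ i) (hi1 : i ≠ 1) : IRow p K := by
  have hfin : Finite S := Finite.of_injective f hf
  have hna : ¬ IsMulCommutative S := not_comm_of_card (by rw [hn]; exact hn')
  have e : S ≃* f.range := MonoidHom.ofInjective hf
  have : IsSimpleGroup f.range := (MulEquiv.isSimpleGroup_congr e).1 inferInstance
  have h1 : Nat.card f.range = n := by rw [← hn, Nat.card_congr e.toEquiv]
  have h2 := f.range.card_mul_index
  rw [h1, hK] at h2
  have hn0 : 0 < n := by rw [← h1]; exact Nat.card_pos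
  have h3 : f.range.index = i := Nat.eq_of_mul_eq_mul_left hn0 h2
  refine irow_of_sub hin hc hI f.range ?_ ?_ (by rw [h3]; exact hi)
  · intro h
    rw [h, Subgroup.index_top] at h3
    exact hi1 h3.symm
  · intro hcomm
    refine hna ⟨⟨fun a b => e.injective ?_⟩⟩
    rw [map_mul, map_mul]
    exact hcomm.is_comm.comm _ _

end

end Cfsg.Agent.H729.Inv
end

-- part: H729/Inv/VFour
section
/-!
# S3830, the Klein four trick (helper729)

`ns_of_vfour` : Sylow `p`-subgroups cyclic, `x` of order `p` normalises no non-trivial 2-subgroup, every involution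
commutes with another one. Then some involution generates a non-solvable group with `x`.
-/

set_option autoImplicit false
set_option linter.unusedSectionVars false

namespace Cfsg.Agent.H729.Inv.VFour

open Cfsg Subgroup Cfsg.Agent.H459.Inv Cfsg.Agent.H29.CyclicPairs

universe u

section

variable {H : Type u} [Group H] [Finite H] {p : ℕ} [hp : Fact p.Prime]

/-- `x` normalises no non-trivial 2-subgroup -/
def NoTwo {H : Type*} [Group H] (x : H) : Prop := ∀ A : Subgroup H, IsPGroup 2 A → (∀ a ∈ A, x * a * x⁻¹ ∈ A) → A = ⊥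

theorem NoTwo.not_comm {x : H} (h2 : NoTwo x) {t : H} (ht : orderOf t = 2) (hxt : x * t = t * x) : False := by
  have h1 : zpowers t = ⊥ := by
    refine h2 _ (IsPGroup.of_card (n := 1) (by rw [Nat.card_zpowers, ht, pow_one])) ?_
    rintro a ⟨k, rfl⟩
    have h1 : Commute x (t ^ k) := (show Commute x t from hxt).zpow_right k
    show x * t ^ k * x⁻¹ ∈ zpowers t
    rw [h1.eq, mul_inv_cancel_right]
    exact ⟨k, rfl⟩
  rw [zpowers_eq_bot] at h1
  rw [h1, orderOf_one] at ht
  omega

theorem NoTwo.odd {x : H} (hx : orderOf x = p) (h2 : NoTwo x) {N : Subgroup H} [hNn : N.Normal]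
    (hN : (Nat.card N).Coprime p) : Odd (Nat.card N) := by
  have h2' : Fact (Nat.Prime 2) := ⟨Nat.prime_two⟩
  have hD : IsPGroup p (zpowers x) := IsPGroup.of_card (n := 1) (by rw [Nat.card_zpowers, hx, pow_one])
  obtain ⟨R, hRN, hR, hRi, hRx⟩ := Classification.QDW.FuCop.exists_inv hD (X := N)
    ((Nat.Prime.coprime_iff_not_dvd hp.out).1 hN.symm) (fun b _ u hu => hNn.conj_mem u hu b) 2
  have h3 : R = ⊥ := h2 R hR (hRx x (mem_zpowers x))
  rw [h3, Subgroup.relIndex_bot_left] at hRi
  exact Nat.not_even_iff_odd.1 fun h => hRi (even_iff_two_dvd.1 h)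

theorem NoTwo.of_injective {G : Type*} [Group G] (f : H →* G) (hf : Function.Injective f) {x : H} (h : NoTwo (f x)) :
    NoTwo x := by
  intro A hA hx
  have h1 : A.map f = ⊥ := by
    refine h _ (hA.map f) ?_
    rintro _ ⟨a, ha, rfl⟩
    exact ⟨x * a * x⁻¹, hx a ha, by rw [map_mul, map_mul, map_inv]⟩
  rw [eq_bot_iff]
  intro a ha
  have h2 : f a ∈ A.map f := ⟨a, ha, rfl⟩
  rw [h1, mem_bot] at h2
  rw [mem_bot]
  exact hf (h2.trans (map_one f).symm)

/-- **Involutions invert `x` modulo `O_{p'}`.** -/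
theorem invert (hc : Cyc p H) (hs : Group.IsSolvable H) {x : H} (hx : orderOf x = p) (h2 : NoTwo x) {y : H}
    (hy : orderOf y = 2) : ∃ t : H, orderOf t = 2 ∧ t * x * t⁻¹ = x⁻¹ ∧
      QuotientGroup.mk' (pPrimeCore p H) t = QuotientGroup.mk' (pPrimeCore p H) y := by
  have hKn : (pPrimeCore p H).Normal := Lib.Cores.pPrimeCore_normal p
  have hcop := Lib.Cores.pPrimeCore_coprime (G := H) p
  have hodd : Odd (Nat.card (pPrimeCore p H)) := h2.odd hx hcop
  have hxp := pow_of_orderOf hx
  have hyy : y ^ 2 = 1 := by rw [← hy, pow_orderOf_eq_one]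
  set π := QuotientGroup.mk' (pPrimeCore p H) with hπ
  obtain ⟨k, hk, i, hi⟩ := H509.CycBlock.exists_normalizing hc (Lib.PSolvable.IsPSolvable_of_solvable p) hx y
  set t₀ := k * y with ht₀
  have hπt : π t₀ = π y := by
    have h3 : π k = 1 := (QuotientGroup.eq_one_iff _).2 hk
    rw [ht₀, map_mul, h3, one_mul]
  have hK2 : t₀ ^ 2 ∈ pPrimeCore p H := by
    refine (QuotientGroup.eq_one_iff _).1 ?_
    show π (t₀ ^ 2) = 1
    rw [map_pow, hπt, ← map_pow, hyy, map_one]
  have hyK : y ∉ pPrimeCore p H := by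
    intro h
    have h3 : orderOf y ∣ Nat.card (pPrimeCore p H) := Subgroup.orderOf_dvd_natCard _ h
    rw [hy] at h3
    exact (Nat.not_even_iff_odd.2 hodd) (even_iff_two_dvd.2 h3)
  -- the odd number `m`
  set m := orderOf (t₀ ^ 2) with hm
  have hmo : Odd m := Odd.of_dvd_nat hodd (Subgroup.orderOf_dvd_natCard _ hK2)
  have ht2 : (t₀ ^ m) ^ 2 = 1 := by rw [← pow_mul, mul_comm, pow_mul, hm, pow_orderOf_eq_one]
  have hπm : π (t₀ ^ m) = π y := by
    obtain ⟨j, hj⟩ := hmo
    rw [map_pow, hπt, hj, pow_succ, pow_mul, ← map_pow, hyy, map_one, one_pow, one_mul]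
  have hto : orderOf (t₀ ^ m) = 2 := by
    have : Fact (Nat.Prime 2) := ⟨Nat.prime_two⟩
    refine orderOf_eq_prime ht2 fun h => hyK ?_
    rw [h, map_one] at hπm
    exact (QuotientGroup.eq_one_iff _).1 hπm.symm
  -- the action on `x`
  have hact : ∀ n : ℕ, t₀ ^ n * x * (t₀ ^ n)⁻¹ = x ^ (i ^ n) := by
    intro n
    induction n with
    | zero => simp
    | succ n ih =>
      calc t₀ ^ (n + 1) * x * (t₀ ^ (n + 1))⁻¹ = t₀ ^ n * (t₀ * x * t₀⁻¹) * (t₀ ^ n)⁻¹ := by
            rw [pow_succ, mul_inv_rev]; group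
        _ = t₀ ^ n * x ^ i * (t₀ ^ n)⁻¹ := by rw [hi]
        _ = (t₀ ^ n * x * (t₀ ^ n)⁻¹) ^ i := by rw [conj_zpow]
        _ = _ := by rw [ih, ← zpow_mul, pow_succ]
  have hinv2 : x ^ ((i ^ m) ^ 2) = x := by
    rw [← pow_mul, mul_comm m 2, ← hact (2 * m), pow_mul', ht2]
    simp
  have hdvd : (p : ℤ) ∣ (i ^ m) ^ 2 - 1 := by
    rw [← hx]
    refine orderOf_dvd_iff_zpow_eq_one.2 ?_
    rw [zpow_sub, zpow_one, hinv2, mul_inv_cancel]
  have hfac : (p : ℤ) ∣ (i ^ m - 1) * (i ^ m + 1) := by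
    have : (i ^ m) ^ 2 - 1 = (i ^ m - 1) * (i ^ m + 1) := by ring
    rwa [this] at hdvd
  have hpz : Prime (p : ℤ) := Nat.prime_iff_prime_int.1 hp.out
  refine ⟨t₀ ^ m, hto, ?_, hπm⟩
  rw [hact m]
  rcases hpz.dvd_or_dvd hfac with h | h
  · exfalso
    have h3 : x ^ (i ^ m) = x := by
      have h4 : x ^ (i ^ m - 1) = 1 := by
        rw [← orderOf_dvd_iff_zpow_eq_one, hx]; exact h
      rw [zpow_sub, zpow_one] at h4
      exact mul_inv_eq_one.1 h4
    have h4 := hact m
    rw [h3] at h4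
    refine h2.not_comm hto ?_
    exact (mul_inv_eq_iff_eq_mul.1 h4).symm
  · have h4 : x ^ (i ^ m + 1) = 1 := by
      rw [← orderOf_dvd_iff_zpow_eq_one, hx]; exact h
    rw [zpow_add, zpow_one] at h4
    exact mul_eq_one_iff_eq_inv.1 h4

/-- no Klein four group -/
theorem no_four (hc : Cyc p H) (hs : Group.IsSolvable H) (hp2 : p ≠ 2) {x : H} (hx : orderOf x = p) (h2 : NoTwo x)
    {t y : H} (ht : orderOf t = 2) (hy : orderOf y = 2) (hty : t * y = y * t) (hne : t ≠ y) : False := by
  have hKn : (pPrimeCore p H).Normal := Lib.Cores.pPrimeCore_normal p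
  have hcop := Lib.Cores.pPrimeCore_coprime (G := H) p
  set π := QuotientGroup.mk' (pPrimeCore p H) with hπ
  have htt : t ^ 2 = 1 := by rw [← ht, pow_orderOf_eq_one]
  have hyy : y ^ 2 = 1 := by rw [← hy, pow_orderOf_eq_one]
  have hty2 : orderOf (t * y) = 2 := by
    have : Fact (Nat.Prime 2) := ⟨Nat.prime_two⟩
    refine orderOf_eq_prime (by rw [(show Commute t y from hty).mul_pow, htt, hyy, one_mul]) fun h => hne ?_
    rw [pow_two] at hyy
    rw [mul_eq_one_iff_eq_inv.1 h]
    exact inv_eq_of_mul_eq_one_left hyy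
  have key : ∀ w : H, orderOf w = 2 → π w * π x * (π w)⁻¹ = (π x)⁻¹ := by
    intro w hw
    obtain ⟨w', -, h3, h4⟩ := invert hc hs hx h2 hw
    rw [← h4, ← map_inv, ← map_mul, ← map_mul, h3, map_inv]
  have h3 : π x = (π x)⁻¹ := by
    have h5 := key (t * y) hty2
    rw [map_mul] at h5
    calc π x = ((π x)⁻¹)⁻¹ := (inv_inv _).symm
      _ = (π t * π x * (π t)⁻¹)⁻¹ := by rw [key t ht]
      _ = π t * (π x)⁻¹ * (π t)⁻¹ := by group
      _ = π t * (π y * π x * (π y)⁻¹) * (π t)⁻¹ := by rw [key y hy]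
      _ = (π t * π y) * π x * (π t * π y)⁻¹ := by group
      _ = _ := h5
  have h4 : π (x ^ 2) = 1 := by
    rw [map_pow, pow_two]
    nth_rewrite 1 [h3]
    rw [inv_mul_cancel]
  have h5 : x ^ 2 ∈ pPrimeCore p H := (QuotientGroup.eq_one_iff _).1 h4
  have h6 : orderOf (x ^ 2) ∣ Nat.card (pPrimeCore p H) := Subgroup.orderOf_dvd_natCard _ h5
  have h7 : orderOf (x ^ 2) = p := by
    rw [orderOf_pow' x (by norm_num), hx]
    have : Nat.gcd p 2 = 1 := (Nat.coprime_primes hp.out Nat.prime_two).2 hp2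
    rw [this, Nat.div_one]
  rw [h7] at h6
  exact (Nat.Prime.coprime_iff_not_dvd hp.out).1 hcop.symm h6

end

/-- **The Klein four trick.** -/
theorem ns_of_vfour {K : Type u} [Group K] [Finite K] {p : ℕ} [hp : Fact p.Prime] (hp2 : p ≠ 2)
    (hc : ∀ P : Sylow p K, IsCyclic (P : Subgroup K)) {x : K} (hx : orderOf x = p)
    (h2 : ∀ A : Subgroup K, IsPGroup 2 A → (∀ a ∈ A, x * a * x⁻¹ ∈ A) → A = ⊥) (hev : 2 ∣ Nat.card K)
    (hV : ∀ t : K, orderOf t = 2 → ∃ y : K, orderOf y = 2 ∧ t ≠ y ∧ t * y = y * t) : NS (MulAut.conj x) := by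
  by_contra hcon
  have hsol : ∀ y : K, orderOf y = 2 → Group.IsSolvable ↥(closure ({x, y} : Set K)) := by
    intro y hy
    by_contra h
    exact hcon (ns_of_inner hy h)
  have hcK : Cyc p K := hc
  have : Fact (Nat.Prime 2) := ⟨Nat.prime_two⟩
  obtain ⟨y₀, hy₀⟩ := exists_prime_orderOf_dvd_card' 2 hev
  -- an involution inverting `x`
  obtain ⟨t, ht, htx⟩ : ∃ t : K, orderOf t = 2 ∧ t * x * t⁻¹ = x⁻¹ := by
    have hxH : x ∈ closure ({x, y₀} : Set K) := Subgroup.subset_closure (by simp)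
    have hyH : y₀ ∈ closure ({x, y₀} : Set K) := Subgroup.subset_closure (by simp)
    have hx' : orderOf (⟨x, hxH⟩ : closure ({x, y₀} : Set K)) = p := by rw [Subgroup.orderOf_mk, hx]
    have hy' : orderOf (⟨y₀, hyH⟩ : closure ({x, y₀} : Set K)) = 2 := by rw [Subgroup.orderOf_mk, hy₀]
    obtain ⟨t, h3, h4, -⟩ := invert (hcK.of_injective (closure ({x, y₀} : Set K)).subtype Subtype.val_injective)
      (hsol y₀ hy₀) hx' (NoTwo.of_injective (closure ({x, y₀} : Set K)).subtype Subtype.val_injective h2) hy'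
    exact ⟨t, by rw [Subgroup.orderOf_coe, h3], congrArg Subtype.val h4⟩
  obtain ⟨y, hy, hne, hty⟩ := hV t ht
  have htt : t⁻¹ = t := by
    have h3 : t ^ 2 = 1 := by rw [← ht, pow_orderOf_eq_one]
    rw [pow_two] at h3
    exact inv_eq_of_mul_eq_one_left h3
  have htx' : t * x⁻¹ * t⁻¹ = x := by
    calc t * x⁻¹ * t⁻¹ = (t * x * t⁻¹)⁻¹ := by group
      _ = x := by rw [htx, inv_inv]
  have hn : ∀ a ∈ closure ({x, y} : Set K), t * a * t⁻¹ ∈ closure ({x, y} : Set K) := by
    have h3 : closure ({x, y} : Set K) ≤ (closure ({x, y} : Set K)).comap (MulAut.conj t).toMonoidHom := by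
      refine (closure_le _).2 ?_
      intro z hz
      rcases hz with hz | hz
      · have h4 : t * x * t⁻¹ ∈ closure ({x, y} : Set K) := by
          rw [htx]
          exact inv_mem (Subgroup.subset_closure (by simp))
        rw [hz]
        exact h4
      · rw [Set.mem_singleton_iff] at hz
        have h4 : t * y * t⁻¹ ∈ closure ({x, y} : Set K) := by
          rw [hty, mul_inv_cancel_right]
          exact Subgroup.subset_closure (by simp)
        rw [hz]
        exact h4
    exact fun a ha => h3 ha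
  have hs : Group.IsSolvable ↥(closure ({x, t, y} : Set K)) := by
    refine solvable_closure (A := closure ({x, y} : Set K)) (X := t) hn ?_ (hsol y hy) ?_
    · intro a ha
      have h3 := hn a ha
      rw [htt] at h3 ⊢
      exact h3
    · rintro z (rfl | rfl | rfl)
      · exact (le_sup_left : closure ({z, y} : Set K) ≤ _) (Subgroup.subset_closure (by simp))
      · exact (le_sup_right : zpowers z ≤ _) (mem_zpowers z)
      · exact (le_sup_left : closure ({x, z} : Set K) ≤ _) (Subgroup.subset_closure (by simp))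
  set H := closure ({x, t, y} : Set K) with hH
  have hxH : x ∈ H := Subgroup.subset_closure (by simp)
  have htH : t ∈ H := Subgroup.subset_closure (by simp)
  have hyH : y ∈ H := Subgroup.subset_closure (by simp)
  refine no_four (H := H) (p := p) (x := ⟨x, hxH⟩) (t := ⟨t, htH⟩) (y := ⟨y, hyH⟩)
    (hcK.of_injective H.subtype Subtype.val_injective) hs hp2 (by rw [Subgroup.orderOf_mk, hx])
    (NoTwo.of_injective H.subtype Subtype.val_injective h2) (by rw [Subgroup.orderOf_mk, ht])
    (by rw [Subgroup.orderOf_mk, hy]) (Subtype.ext hty) fun h => hne (congrArg Subtype.val h)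

/-- if there is a Klein four group, every involution commutes with another one -/
theorem exists_comm {K : Type*} [Group K] [Finite K] {u w : K} (hu : orderOf u = 2) (hw : orderOf w = 2) (hne : u ≠ w)
    (hc : u * w = w * u) (t : K) (ht : orderOf t = 2) : ∃ y : K, orderOf y = 2 ∧ t ≠ y ∧ t * y = y * t := by
  have h2 : Fact (Nat.Prime 2) := ⟨Nat.prime_two⟩
  have hP : ∀ a : K, orderOf a = 2 → IsPGroup 2 (zpowers a) := fun a ha =>
    IsPGroup.of_card (n := 1) (by rw [Nat.card_zpowers, ha, pow_one])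
  obtain ⟨S, hS⟩ := (hP t ht).exists_le_sylow
  have htS : t ∈ (S : Subgroup K) := hS (mem_zpowers t)
  -- a Klein four group in `S`
  have hV : IsPGroup 2 (zpowers u ⊔ zpowers w : Subgroup K) := by
    refine (hP u hu).to_sup_of_normal_right' (hP w hw) ?_
    rw [zpowers_le, mem_normalizer_iff]
    have h3 : ∀ k : ℤ, u * w ^ k * u⁻¹ = w ^ k := fun k => by
      rw [((show Commute u w from hc).zpow_right k).eq, mul_inv_cancel_right]
    intro y
    constructor
    · rintro ⟨k, rfl⟩
      exact ⟨k, (h3 k).symm⟩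
    · rintro ⟨k, hk⟩
      refine ⟨k, ?_⟩
      have h4 : u * (w ^ k) * u⁻¹ = u * y * u⁻¹ := by rw [h3]; exact hk
      exact mul_left_cancel (mul_right_cancel h4)
  obtain ⟨R, hR⟩ := hV.exists_le_sylow
  obtain ⟨g, hg⟩ := MulAction.exists_smul_eq K R S
  have hconj : ∀ a ∈ (R : Subgroup K), g * a * g⁻¹ ∈ (S : Subgroup K) := by
    intro a ha
    rw [← hg, Sylow.coe_subgroup_smul]
    exact ⟨a, ha, rfl⟩
  have hu' : g * u * g⁻¹ ∈ (S : Subgroup K) := hconj u (hR ((le_sup_left : zpowers u ≤ _) (mem_zpowers u)))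
  have hw' : g * w * g⁻¹ ∈ (S : Subgroup K) := hconj w (hR ((le_sup_right : zpowers w ≤ _) (mem_zpowers w)))
  -- a central involution of `S`
  have hnt : Nontrivial (S : Subgroup K) := ⟨⟨t, htS⟩, 1, fun h => by
    have h3 : t = 1 := congrArg Subtype.val h
    rw [h3, orderOf_one] at ht
    omega⟩
  have hcn : Nontrivial (center (S : Subgroup K)) := S.2.center_nontrivial
  have hcp : IsPGroup 2 (center (S : Subgroup K)) := S.2.to_subgroup _
  obtain ⟨n, hn0, hn⟩ := (IsPGroup.nontrivial_iff_card hcp).1 hcn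
  obtain ⟨z, hz⟩ := exists_prime_orderOf_dvd_card' (G := center (S : Subgroup K)) 2
    (by rw [hn]; exact dvd_pow_self 2 hn0.ne')
  have hzc : ∀ a ∈ (S : Subgroup K), (((z : (S : Subgroup K)) : K)) * a = a * ((z : (S : Subgroup K)) : K) := by
    intro a ha
    have h3 := mem_center_iff.1 z.2 ⟨a, ha⟩
    exact (congrArg Subtype.val h3).symm
  have hz2 : orderOf (((z : (S : Subgroup K)) : K)) = 2 := by rw [Subgroup.orderOf_coe, Subgroup.orderOf_coe, hz]
  by_cases htz : t = ((z : (S : Subgroup K)) : K)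
  · have ho : ∀ a : K, orderOf (g * a * g⁻¹) = orderOf a := fun a => by
      have := MulEquiv.orderOf_eq (MulAut.conj g) a
      rwa [MulAut.conj_apply] at this
    by_cases h3 : t = g * u * g⁻¹
    · refine ⟨g * w * g⁻¹, by rw [ho, hw], ?_, by rw [htz]; exact hzc _ hw'⟩
      intro h4
      rw [h3] at h4
      exact hne (mul_left_cancel (mul_right_cancel h4))
    · exact ⟨g * u * g⁻¹, by rw [ho, hu], h3, by rw [htz]; exact hzc _ hu'⟩
  · exact ⟨_, hz2, htz, (hzc t htS).symm⟩

/-- The absence of invariant 2-subgroups: `x` commutes with no involution, and the order of an elementary abelian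
2-subgroup is at most `2 ^ n` with no `0 < k ≤ n`, `p ∣ 2 ^ k - 1`. -/
theorem noTwo_of_rank {K : Type*} [Group K] [Finite K] {p : ℕ} [hp : Fact p.Prime] {x : K} (hx : orderOf x = p)
    (hna : ∀ t : K, orderOf t = 2 → x * t ≠ t * x) {n : ℕ}
    (hr : ∀ E : Subgroup K, (∀ a ∈ E, a * a = 1) → Nat.card E ≤ 2 ^ n)
    (hn : ∀ k : ℕ, 0 < k → k ≤ n → ¬ p ∣ 2 ^ k - 1) (A : Subgroup K) (hA : IsPGroup 2 A)
    (hAx : ∀ a ∈ A, x * a * x⁻¹ ∈ A) : A = ⊥ := by
  by_contra hne
  have h2 : Fact (Nat.Prime 2) := ⟨Nat.prime_two⟩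
  have hAx' : ∀ a ∈ A, x⁻¹ * a * x ∈ A := by
    have h3 : A.map (MulAut.conj x).toMonoidHom = A := by
      apply Subgroup.eq_of_le_of_card_ge
      · rintro _ ⟨a, ha, rfl⟩
        exact hAx a ha
      · rw [Subgroup.card_map_of_injective (f := (MulAut.conj x).toMonoidHom) (MulAut.conj x).injective]
    intro a ha
    rw [← h3] at ha
    obtain ⟨b, hb, rfl⟩ := ha
    show x⁻¹ * (x * b * x⁻¹) * x ∈ A
    have : x⁻¹ * (x * b * x⁻¹) * x = b := by group
    rwa [this]
  let E : Subgroup K :=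
    { carrier := {a | a ∈ A ∧ (∀ b ∈ A, a * b = b * a) ∧ a * a = 1}
      one_mem' := ⟨A.one_mem, fun b _ => by rw [one_mul, mul_one], one_mul 1⟩
      mul_mem' := by
        rintro a b ⟨ha, ha', ha2⟩ ⟨hb, hb', hb2⟩
        refine ⟨A.mul_mem ha hb, fun c hc => ?_, ?_⟩
        · rw [mul_assoc, hb' c hc, ← mul_assoc, ha' c hc, mul_assoc]
        · calc a * b * (a * b) = a * (b * a) * b := by group
            _ = a * (a * b) * b := by rw [ha' b hb]
            _ = (a * a) * (b * b) := by group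
            _ = 1 := by rw [ha2, hb2, one_mul]
      inv_mem' := by
        rintro a ⟨ha, ha', ha2⟩
        refine ⟨A.inv_mem ha, fun c hc => ?_, ?_⟩
        · rw [inv_eq_of_mul_eq_one_left ha2]
          exact ha' c hc
        · rw [inv_eq_of_mul_eq_one_left ha2]
          exact ha2 }
  have hEA : E ≤ A := fun a ha => ha.1
  have hEx : ∀ a ∈ E, MulAut.conj x a ∈ E := by
    rintro a ⟨ha, ha', ha2⟩
    refine ⟨hAx a ha, fun c hc => ?_, ?_⟩
    · have h3 := ha' _ (hAx' c hc)
      rw [MulAut.conj_apply]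
      calc x * a * x⁻¹ * c = x * (a * (x⁻¹ * c * x)) * x⁻¹ := by group
        _ = x * ((x⁻¹ * c * x) * a) * x⁻¹ := by rw [h3]
        _ = c * (x * a * x⁻¹) := by group
    · rw [← map_mul, ha2, map_one]
  have hE2 : IsPGroup 2 E := hA.to_le hEA
  -- non-trivial
  have hEne : Nontrivial E := by
    have hnt : Nontrivial A := (Subgroup.nontrivial_iff_ne_bot _).2 hne
    have hcn : Nontrivial (center A) := hA.center_nontrivial
    have hcp : IsPGroup 2 (center A) := hA.to_subgroup _
    obtain ⟨m, hm0, hm⟩ := (IsPGroup.nontrivial_iff_card hcp).1 hcn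
    obtain ⟨z, hz⟩ := exists_prime_orderOf_dvd_card' (G := center A) 2
      (by rw [hm]; exact dvd_pow_self 2 hm0.ne')
    have hz2 : orderOf ((z : A) : K) = 2 := by rw [Subgroup.orderOf_coe, Subgroup.orderOf_coe, hz]
    have hzE : ((z : A) : K) ∈ E := by
      refine ⟨(z : A).2, fun b hb => ?_, ?_⟩
      · exact (congrArg Subtype.val (mem_center_iff.1 z.2 ⟨b, hb⟩)).symm
      · rw [← pow_two, ← hz2, pow_orderOf_eq_one]
    refine ⟨⟨⟨_, hzE⟩, 1, fun h => ?_⟩⟩
    have h4 : ((z : A) : K) = 1 := congrArg Subtype.val h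
    rw [h4, orderOf_one] at hz2
    omega
  obtain ⟨k, hk0, hk⟩ := (IsPGroup.nontrivial_iff_card hE2).1 hEne
  have hkn : k ≤ n := by
    have h3 := hr E (fun a ha => ha.2.2)
    rw [hk] at h3
    exact (Nat.pow_le_pow_iff_right (by norm_num)).1 h3
  -- fixed points
  set φ : MulAut E := Cfsg.Agent.H459.Inv.res (MulAut.conj x) hEx with hφ
  have hφp : φ ^ p = 1 := by
    ext a
    rw [hφ, Cfsg.Agent.H459.Inv.res_pow, ← map_pow, ← hx, pow_orderOf_eq_one, map_one]
    rfl
  have hD : IsPGroup p (zpowers φ) := isPGroup_zpowers hφp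
  have h3 := hD.card_modEq_card_fixedPoints E
  have h4 : Nat.card (MulAction.fixedPoints (zpowers φ) E) = 1 := by
    rw [Nat.card_eq_one_iff_unique]
    refine ⟨⟨fun a b => ?_⟩, ⟨⟨1, fun g => ?_⟩⟩⟩
    · have key : ∀ c : MulAction.fixedPoints (zpowers φ) E, (c : E) = 1 := by
        intro c
        by_contra hc1
        have h5 : φ (c : E) = c := c.2 ⟨φ, mem_zpowers φ⟩
        have h6 : x * (c : E) * x⁻¹ = (c : E) := congrArg Subtype.val h5
        have h7 : orderOf ((c : E) : K) = 2 := by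
          refine orderOf_eq_prime ?_ fun h => hc1 (Subtype.ext h)
          rw [pow_two]; exact (c : E).2.2.2
        exact hna _ h7 (mul_inv_eq_iff_eq_mul.1 h6)
      exact Subtype.ext ((key a).trans (key b).symm)
    · show (g : MulAut E) 1 = 1
      exact map_one _
  rw [h4, hk] at h3
  refine hn k hk0 hkn ?_
  exact (Nat.modEq_iff_dvd' (Nat.one_le_two_pow)).1 h3.symm

/-- two commuting involutions of a simple group -/
theorem exists_four {K : Type u} [Group K] [Finite K] [IsSimpleGroup K] (hna : ¬ IsMulCommutative K) :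
    ∃ u w : K, orderOf u = 2 ∧ orderOf w = 2 ∧ u ≠ w ∧ u * w = w * u := by
  have h2 : Fact (Nat.Prime 2) := ⟨Nat.prime_two⟩
  obtain ⟨E, hE⟩ := S0204.result (G := K) fun hc => hna ⟨⟨fun a b => by
    obtain ⟨g, hg⟩ := hc.exists_generator
    obtain ⟨i, rfl⟩ := hg a
    obtain ⟨j, rfl⟩ := hg b
    show g ^ i * g ^ j = g ^ j * g ^ i
    rw [← zpow_add, ← zpow_add, add_comm]⟩⟩
  have h4 : Nat.card E = 4 := hE.card_four
  have hexp : ∀ a : E, a ^ 2 = 1 := fun a => by rw [← hE.exponent_two]; exact Monoid.pow_exponent_eq_one a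
  have hnt : Nontrivial E := Finite.one_lt_card_iff_nontrivial.1 (by rw [h4]; norm_num)
  obtain ⟨u, hu⟩ := exists_ne (1 : E)
  obtain ⟨w, hw1, hwu⟩ : ∃ w : E, w ≠ 1 ∧ w ≠ u := by
    by_contra hcon
    push Not at hcon
    have h3 : Nat.card E ≤ 2 := by
      have h5 : (Set.univ : Set E) ⊆ {1, u} := fun w _ => by
        by_cases h : w = 1
        · exact Or.inl h
        · exact Or.inr (hcon w h)
      have h6 := Set.ncard_le_ncard h5 (Set.toFinite _)
      rw [Set.ncard_univ] at h6
      exact h6.trans (Set.ncard_insert_le _ _ |>.trans (by rw [Set.ncard_singleton]))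
    omega
  have ho : ∀ a : E, a ≠ 1 → orderOf (a : K) = 2 := fun a ha => by
    rw [Subgroup.orderOf_coe]
    exact orderOf_eq_prime (hexp a) ha
  refine ⟨u, w, ho u hu, ho w hw1, fun h => hwu (Subtype.ext h).symm, ?_⟩
  have hinv : ∀ a : E, a⁻¹ = a := fun a => by
    have := hexp a
    rw [pow_two] at this
    exact inv_eq_of_mul_eq_one_left this
  have h5 : u * w = w * u := by
    calc u * w = (u * w)⁻¹ := (hinv _).symm
      _ = w⁻¹ * u⁻¹ := mul_inv_rev _ _
      _ = w * u := by rw [hinv, hinv]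
  exact congrArg Subtype.val h5

/-- **The Klein four trick**, packed: `p` divides the order once, `x` commutes with no involution, and the elementary
abelian 2-subgroups have order at most `2 ^ n`, where `p` divides no `2 ^ k - 1`, `0 < k ≤ n`. -/
theorem ns_of_na {K : Type u} [Group K] [Finite K] [IsSimpleGroup K] (hna : ¬ IsMulCommutative K) {p : ℕ}
    [hp : Fact p.Prime] (hp2 : p ≠ 2) (hsq : ¬ p ^ 2 ∣ Nat.card K) {x : K} (hx : orderOf x = p)
    (hxt : ∀ t : K, orderOf t = 2 → x * t ≠ t * x) {n : ℕ}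
    (hr : ∀ E : Subgroup K, (∀ a ∈ E, a * a = 1) → Nat.card E ≤ 2 ^ n)
    (hn : ∀ k : ℕ, 0 < k → k ≤ n → ¬ p ∣ 2 ^ k - 1) : NS (MulAut.conj x) := by
  obtain ⟨u, w, hu, hw, hne, huw⟩ := exists_four hna
  refine ns_of_vfour hp2 (Cfsg.Agent.H459.Inv.cyclic_of_sq hsq) hx (noTwo_of_rank hx hxt hr hn) ?_
    (exists_comm hu hw hne huw)
  rw [← hu]
  exact orderOf_dvd_natCard u

end Cfsg.Agent.H729.Inv.VFour
end
end

-- part: H729/Inv/Baby
section
set_option linter.all false
open scoped Cfsg.Agent.FastGrp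

/-!
# S3830: the Baby Monster (helper729)
-/

set_option autoImplicit false
set_option maxRecDepth 100000

namespace Cfsg.Agent.H729.Inv.Baby

open Cfsg Subgroup Cfsg.Agent.H459.Inv Cfsg.Agent.H459.Rad Cfsg.Agent.H729.Inv

universe u

variable {K : Type u} [Group K]

theorem card_b (h : Spor.IsoB K) : Nat.card K = 4154781481226426191177580544000000 := NotCT.Orders.b h

theorem center_b (h : Spor.IsoB K) : center K = ⊥ := by
  obtain ⟨e⟩ := h
  rw [eq_bot_iff]
  intro z hz
  have h1 : e z ∈ center Spor.BabyMonster := by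
    rw [mem_center_iff]
    intro g
    have h2 := mem_center_iff.1 hz (e.symm g)
    have h3 := congrArg e h2
    rw [map_mul, map_mul, e.apply_symm_apply] at h3
    exact h3
  rw [Omega.TwoF.RowB.center_eq, mem_bot] at h1
  rw [mem_bot]
  exact e.injective (h1.trans (map_one e).symm)

theorem inn_b (h : Spor.IsoB K) {p : ℕ} (hp : p.Prime) (hp2 : p ≠ 2) : Inn p K :=
  BpSpor.Inn.b h p hp hp2

/-- `Fi23 ≤ B` -/
theorem fi23 [Finite K] (h : Spor.IsoB K) {p : ℕ} [hp : Fact p.Prime] (hp' : p = 11 ∨ p = 13 ∨ p = 17 ∨ p = 23)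
    (hI : IH.{u} p (Nat.card K)) : IRow p K := by
  obtain ⟨f, hf⟩ := H843.FullB3.exists_hom
  have hs : IsSimpleGroup Spor.Fi23 := S1697.result.1
  obtain ⟨e⟩ := h
  refine irow_of_hom (n := 4089470473293004800) (i := 1015970529280000) (inn_b ⟨e⟩ hp.out (by omega)) (center_b ⟨e⟩) hI
    (e.symm.toMonoidHom.comp f) (e.symm.injective.comp hf) S1697.result.2 (by norm_num) ?_ ?_ (by norm_num)
  · rw [card_b ⟨e⟩]
  · rcases hp' with rfl | rfl | rfl | rfl <;> norm_num

/-- `Th ≤ B` -/
theorem th [Finite K] (h : Spor.IsoB K) {p : ℕ} [hp : Fact p.Prime] (hp' : p = 7 ∨ p = 19 ∨ p = 31)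
    (hI : IH.{u} p (Nat.card K)) : IRow p K := by
  obtain ⟨T, ⟨e₁⟩⟩ := H800.Sp.B.exists_th_B
  have hs : IsSimpleGroup Spor.Th := Cfsg.Agent.Th.Main1700.isTh.1
  obtain ⟨e⟩ := h
  refine irow_of_hom (n := 90745943887872000) (i := 45784762417152000) (inn_b ⟨e⟩ hp.out (by omega)) (center_b ⟨e⟩) hI
    ((e.symm.toMonoidHom.comp T.subtype).comp e₁.symm.toMonoidHom)
    ((e.symm.injective.comp T.subtype_injective).comp e₁.symm.injective) Cfsg.Agent.Th.Main1700.isTh.2 (by norm_num) ?_ ?_ (by norm_num)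
  · rw [card_b ⟨e⟩]
  · rcases hp' with rfl | rfl | rfl <;> norm_num

/-- `HN ≤ B` -/
theorem hn [Finite K] (h : Spor.IsoB K) (hI : IH.{u} 5 (Nat.card K)) : IRow 5 K := by
  have hp : Fact (Nat.Prime 5) := ⟨by norm_num⟩
  obtain ⟨T, hT⟩ := BabyM.HNB.main BabyM.Instance.all BabyM.Instance.ok S1701.result
  have hs : IsSimpleGroup T := hT.1
  obtain ⟨f⟩ := KFacts.Baby.RowB.exists_iso h
  refine irow_of_hom (n := 273030912000000) (i := 15217256723027853312) (inn_b h hp.out (by omega)) (center_b h) hI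
    (f.toMonoidHom.comp T.subtype) (f.injective.comp T.subtype_injective) hT.2 (by norm_num) ?_ (by norm_num)
    (by norm_num)
  rw [card_b h]

/-- elements of order 47 -/
theorem p47 [Finite K] (h : Spor.IsoB K) : IRow 47 K := by
  have hp : Fact (Nat.Prime 47) := ⟨by norm_num⟩
  intro x hx
  obtain ⟨g, rfl⟩ := inn_b h hp.out (by norm_num) x hx
  rw [orderOf_conj_of_center (center_b h)] at hx
  have hcard := card_b h
  have hs : IsSimpleGroup K := by
    obtain ⟨e⟩ := h
    exact (MulEquiv.isSimpleGroup_congr e).2 BM.KHAll.isB.1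
  refine VFour.ns_of_na (p := 47) (not_comm_of_card (by rw [hcard]; norm_num)) (by norm_num) (by rw [hcard]; norm_num) hx
    (fun t ht hxt => H393.Iso.na_b h g t hx ht hxt) (n := 22) (fun E hE => H821.SpB.card_le h hE) ?_
  intro k hk0 hk
  interval_cases k <;> norm_num

theorem irow_b [Finite K] (h : Spor.IsoB K) {p : ℕ} [hp : Fact p.Prime] (hp5 : 5 ≤ p) (hI : IH.{u} p (Nat.card K)) :
    IRow p K := by
  by_cases hd : p ∣ Nat.card K
  · have h1 : p = 5 ∨ p = 7 ∨ p = 11 ∨ p = 13 ∨ p = 17 ∨ p = 19 ∨ p = 23 ∨ p = 31 ∨ p = 47 := by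
      rw [card_b h] at hd
      have h2 : (4154781481226426191177580544000000 : ℕ) =
        2 ^ 41 * 3 ^ 13 * 5 ^ 6 * 7 ^ 2 * 11 * 13 * 17 * 19 * 23 * 31 * 47 := by norm_num
      rw [h2] at hd
      simp only [hp.out.dvd_mul] at hd
      have key : ∀ {a n : ℕ}, a.Prime → p ∣ a ^ n → p = a := fun ha h => 
        (Nat.prime_dvd_prime_iff_eq hp.out ha).1 (hp.out.dvd_of_dvd_pow h)
      have key' : ∀ {a : ℕ}, a.Prime → p ∣ a → p = a := fun ha h => (Nat.prime_dvd_prime_iff_eq hp.out ha).1 h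
      rcases hd with (((((((((h3 | h3) | h3) | h3) | h3) | h3) | h3) | h3) | h3) | h3) | h3
      · have := key (by norm_num) h3; omega
      · have := key (by norm_num) h3; omega
      · have := key (by norm_num) h3; omega
      · have := key (by norm_num) h3; omega
      all_goals (have := key' (by norm_num) h3; omega)
    rcases h1 with rfl | rfl | rfl | rfl | rfl | rfl | rfl | rfl | rfl
    · exact hn h hI
    · exact th h (by norm_num) hI
    · exact fi23 h (by norm_num) hI
    · exact fi23 h (by norm_num) hI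
    · exact fi23 h (by norm_num) hI
    · exact th h (by norm_num) hI
    · exact fi23 h (by norm_num) hI
    · exact th h (by norm_num) hI
    · exact p47 h
  · intro x hx
    exfalso
    obtain ⟨g, rfl⟩ := inn_b h hp.out (by omega) x hx
    rw [orderOf_conj_of_center (center_b h)] at hx
    exact hd (hx ▸ orderOf_dvd_natCard g)

end Cfsg.Agent.H729.Inv.Baby
end
end
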